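import Mathlib

/-!
Elementary Shintani descent in an abstract group with an automorphism.
-/

set_option autoImplicit false

namespace Cfsg.Agent.Shintani

variable {X : Type*} [Group X] (σ : MulAut X)

theorem pow_succ_apply (i : ℕ) (a : X) : (σ ^ (i + 1)) a = (σ ^ i) (σ a) := by
  rw [pow_succ]; rfl

theorem pow_succ_apply' (i : ℕ) (a : X) : (σ ^ (i + 1)) a = σ ((σ ^ i) a) := by
  rw [pow_succ']; rfl

theorem mem_fix (τ : MulAut X) (k : X) :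
    k ∈ (MulEquiv.toMonoidHom τ).eqLocus (MonoidHom.id X) ↔ τ k = k := Iff.rfl

theorem tele {g a : X} (ha : g = a * (σ a)⁻¹) : ∀ d : ℕ,
    ((List.range d).map (fun i => (σ ^ i) g)).prod = a * ((σ ^ d) a)⁻¹
  | 0 => by simp
  | d + 1 => by
    rw [List.range_succ, List.map_append, List.prod_append, tele ha d, List.map_singleton,
      List.prod_singleton, ha, map_mul, map_inv, ← pow_succ_apply]
    group

theorem fix_pow {g : X} (hg : σ g = g) : ∀ i : ℕ, (σ ^ i) g = g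
  | 0 => rfl
  | i + 1 => by rw [pow_succ_apply, hg, fix_pow hg i]

theorem shift {g a : X} {e : ℕ} (hg : (σ ^ e) g = g) (ha : g = a * (σ a)⁻¹) :
    σ (((σ ^ e) a)⁻¹ * a) = ((σ ^ e) a)⁻¹ * a := by
  rw [ha, map_mul, map_inv, ← pow_succ_apply] at hg
  rw [map_mul, map_inv, ← pow_succ_apply']
  calc ((σ ^ (e + 1)) a)⁻¹ * σ a
      = ((σ ^ e) a)⁻¹ * ((σ ^ e) a * ((σ ^ (e + 1)) a)⁻¹) * σ a := by group
    _ = ((σ ^ e) a)⁻¹ * a := by rw [hg]; group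

/-- Twisted conjugation corresponds to conjugation of the Shintani images. -/
theorem twisted_iff (e : ℕ) {a b k : X} :
    ((σ ^ e) k = k ∧ b * (σ b)⁻¹ = k * (a * (σ a)⁻¹) * (σ k)⁻¹) ↔
      (σ (b⁻¹ * k * a) = b⁻¹ * k * a ∧
        ((σ ^ e) b)⁻¹ * b = (b⁻¹ * k * a) * (((σ ^ e) a)⁻¹ * a) * (b⁻¹ * k * a)⁻¹) := by
  have h1 : b * (σ b)⁻¹ = k * (a * (σ a)⁻¹) * (σ k)⁻¹ ↔ σ (b⁻¹ * k * a) = b⁻¹ * k * a := by
    rw [map_mul, map_mul, map_inv]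
    constructor
    · intro h
      calc (σ b)⁻¹ * σ k * σ a = b⁻¹ * (b * (σ b)⁻¹) * σ k * σ a := by group
        _ = b⁻¹ * k * a := by rw [h]; group
    · intro h
      calc b * (σ b)⁻¹ = b * ((σ b)⁻¹ * σ k * σ a) * (σ a)⁻¹ * (σ k)⁻¹ := by group
        _ = k * (a * (σ a)⁻¹) * (σ k)⁻¹ := by rw [h]; group
  have h2 : σ (b⁻¹ * k * a) = b⁻¹ * k * a → ((σ ^ e) k = k ↔
      ((σ ^ e) b)⁻¹ * b = (b⁻¹ * k * a) * (((σ ^ e) a)⁻¹ * a) * (b⁻¹ * k * a)⁻¹) := by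
    intro hh
    have he := fix_pow σ hh e
    rw [map_mul, map_mul, map_inv] at he
    constructor
    · intro hk
      rw [hk] at he
      calc ((σ ^ e) b)⁻¹ * b = ((σ ^ e) b)⁻¹ * k * (σ ^ e) a * ((σ ^ e) a)⁻¹ * k⁻¹ * b := by group
        _ = (b⁻¹ * k * a) * (((σ ^ e) a)⁻¹ * a) * (b⁻¹ * k * a)⁻¹ := by rw [he]; group
    · intro hx
      calc (σ ^ e) k
          = (σ ^ e) b * (((σ ^ e) b)⁻¹ * (σ ^ e) k * (σ ^ e) a) * ((σ ^ e) a)⁻¹ := by group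
        _ = (σ ^ e) b * ((b⁻¹ * k * a) * (((σ ^ e) a)⁻¹ * a) * (b⁻¹ * k * a)⁻¹) * b⁻¹ * k := by
          rw [he]; group
        _ = k := by rw [← hx]; group
  constructor
  · rintro ⟨hk, hb⟩
    exact ⟨h1.1 hb, (h2 (h1.1 hb)).1 hk⟩
  · rintro ⟨hh, hx⟩
    exact ⟨(h2 hh).2 hx, h1.2 hh⟩

theorem pow_mul_fix {g a : X} {e : ℕ} (hg : (σ ^ e) g = g) (ha : g = a * (σ a)⁻¹) : ∀ j : ℕ,
    ((σ ^ (e * j)) a)⁻¹ * a = (((σ ^ e) a)⁻¹ * a) ^ j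
  | 0 => by simp
  | j + 1 => by
    have hx := fix_pow σ (shift σ hg ha) (e * j)
    rw [map_mul, map_inv] at hx
    have h : (σ ^ (e * j)) ((σ ^ e) a) = (σ ^ (e * (j + 1))) a := by
      rw [Nat.mul_succ, pow_add]; rfl
    rw [h] at hx
    rw [pow_succ' _ j, ← pow_mul_fix hg ha j, ← mul_assoc]
    congr 1
    calc ((σ ^ (e * (j + 1))) a)⁻¹
        = ((σ ^ (e * (j + 1))) a)⁻¹ * (σ ^ (e * j)) a * ((σ ^ (e * j)) a)⁻¹ := by group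
      _ = ((σ ^ e) a)⁻¹ * a * ((σ ^ (e * j)) a)⁻¹ := by rw [hx]

end Cfsg.Agent.Shintani
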